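import Cfsg.Agent.FusE.Quat2

/-! The splitting `ℍ[F] ≃ M₂(F)` over a finite field of odd order and the isomorphism `U₂(ℍ[F]) ≃ Sp₄(F)`. -/

set_option autoImplicit false
set_option linter.unusedSectionVars false

namespace Cfsg.Agent.FusE

open Subgroup Quaternion Matrix

variable {F : Type*} [Field F] [Finite F] [NeZero (2 : F)] {a b : F}

/-- The splitting of the quaternions attached to `a² + b² = -1`. -/
def qsplit (hab : a * a + b * b = -1) : ℍ[F] ≃+* Matrix (Fin 2) (Fin 2) F where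
  toFun x := !![x.re + a * x.imJ + b * x.imK, x.imI + b * x.imJ - a * x.imK;
    -x.imI + b * x.imJ - a * x.imK, x.re - a * x.imJ - b * x.imK]
  invFun A := qq (2⁻¹ * (A 0 0 + A 1 1)) (2⁻¹ * (A 0 1 - A 1 0)) (-2⁻¹ * (a * (A 0 0 - A 1 1) + b * (A 0 1 + A 1 0)))
    (-2⁻¹ * (b * (A 0 0 - A 1 1) - a * (A 0 1 + A 1 0)))
  left_inv x := by
    have := NeZero.ne (2 : F)
    ext <;> simp <;> field_simp
    exacts [by ring, by ring, by linear_combination -2 * x.imJ * hab, by linear_combination -2 * x.imK * hab]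
  right_inv A := by
    have := NeZero.ne (2 : F)
    ext i j; fin_cases i <;> fin_cases j <;> simp <;> field_simp
    exacts [by linear_combination -(A 0 0 - A 1 1) * hab, by linear_combination -(A 0 1 + A 1 0) * hab,
      by linear_combination -(A 0 1 + A 1 0) * hab, by linear_combination (A 0 0 - A 1 1) * hab]
  map_mul' x y := by
    ext i j; fin_cases i <;> fin_cases j <;> simp
    exacts [by linear_combination -(x.imJ * y.imJ + x.imK * y.imK) * hab,
      by linear_combination -(x.imK * y.imJ - x.imJ * y.imK) * hab,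
      by linear_combination (x.imK * y.imJ - x.imJ * y.imK) * hab,
      by linear_combination -(x.imJ * y.imJ + x.imK * y.imK) * hab]
  map_add' x y := by ext i j; fin_cases i <;> fin_cases j <;> simp <;> ring

/-- The index bijection. -/
def ix : Fin 2 × Fin 2 ≃ Fin 2 ⊕ Fin 2 where
  toFun p := ![.inl p.1, .inr p.1] p.2
  invFun := Sum.elim (·, 0) (·, 1)
  left_inv := by decide
  right_inv := by decide

/-- `M₂(ℍ[F]) ≃ M₄(F)`. -/
def Psi (hab : a * a + b * b = -1) : Matrix (Fin 2) (Fin 2) ℍ[F] ≃+* Matrix (Fin 2 ⊕ Fin 2) (Fin 2 ⊕ Fin 2) F :=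
  ((qsplit hab).mapMatrix.trans (compRingEquiv _ _ F)).trans (reindexRingEquiv F ix)

theorem Psi_star (hab : a * a + b * b = -1) (M : Matrix (Fin 2) (Fin 2) ℍ[F]) :
    Psi hab (star M) * J (Fin 2) F = J (Fin 2) F * (Psi hab M)ᵀ := by
  ext (i | i) (j | j) <;> fin_cases i <;> fin_cases j <;>
    simp [Psi, J, mul_apply, ix, qsplit, one_apply] <;> ring

theorem exists_equiv_sp : Nonempty (HH F ≃* symplecticGroup (Fin 2) F) := by
  obtain ⟨a, b, hab⟩ := sum_two_sq (-1 : F)
  have key : ∀ M, M ∈ unitary (Matrix (Fin 2) (Fin 2) ℍ[F]) ↔ Psi hab M ∈ symplecticGroup (Fin 2) F := fun M => by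
    rw [SymplecticGroup.mem_iff, Matrix.mul_assoc, ← Psi_star, ← Matrix.mul_assoc, ← map_mul]
    refine ⟨fun h => by rw [h.2, map_one, Matrix.one_mul], fun h => mem_HH ((Psi hab).injective ?_)⟩
    rwa [map_one, ← (Matrix.isUnit_iff_isUnit_det _).2 (isUnit_det_J _ _) |>.mul_left_inj, Matrix.one_mul]
  exact ⟨{ (Psi hab).toEquiv.subtypeEquiv key with map_mul' := fun x y => Subtype.ext (map_mul (Psi hab) x.1 y.1) }⟩

theorem mem_center_HH {x : HH F} : x ∈ center (HH F) ↔ x = 1 ∨ x = -1 := by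
  refine ⟨fun h => ?_, by rintro (rfl | rfl) <;> simp [mem_center_iff]⟩
  have h1 : ∀ y, x ∈ CG y := fun y => .inl (mem_center_iff.1 h y).symm
  refine (pm_zz (h1 _) (h1 _) (h1 _) (h1 _)).resolve_right ?_
  rintro (rfl | rfl) <;> simpa [sw_dq, dq_inj, neg_ne_self'] using mem_center_iff.1 h sw

end Cfsg.Agent.FusE
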