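import Cfsg.Agent.FusE.Crit

/-! A more flexible form `crit2` of the simplicity criterion: the elements inducing maps of a weakly normal
subsystem (`Ind`) may be moved between centric subgroups. -/

set_option autoImplicit false

namespace Cfsg.Agent.FusE

open Subgroup Cfsg Cfsg.Agent.Loc Cfsg.Agent.Fus Equiv

variable {Ω : Type*} [Group Ω] {p : ℕ}

/-- Abstract properties of the groups `Y R` of elements inducing automorphisms of `R` in a subsystem. -/
structure Ind (p : ℕ) (H S : Subgroup Ω) (Y : Subgroup Ω → Subgroup Ω) : Prop where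
  cen : ∀ R : Subgroup Ω, centralizer (R : Set Ω) ≤ Y R
  opp : ∀ R ≤ S, OppA p (H ⊓ normalizer (R : Set Ω)) ≤ Y R
  up : ∀ R P, R ≤ P → P ≤ S → Cent p H R → ∀ g ∈ H, g ∈ Y R → g ∈ normalizer (P : Set Ω) → g ∈ Y P
  down : ∀ R P, R ≤ P → P ≤ S → ∀ g ∈ Y P, g ∈ normalizer (R : Set Ω) → g ∈ Y R

theorem crit2 [Fact p.Prime] {H S : Subgroup Ω} [Finite H] (hS : SylIn p S H) (h0 : S ≠ ⊥)
    (ha : ∀ T ≤ S, T ≠ ⊥ → SC H S T → S ≤ T)
    (hb : ∀ Y, Ind p H S Y → ∀ g ∈ H, g ∈ normalizer (S : Set Ω) → g ∈ Y S)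
    {G : Type*} [Group G] [Finite G] (θ : H →* G) (hθ : Function.Surjective θ)
    (hi : ∀ x : H, x.1 ∈ S → θ x = 1 → x = 1) (P : Sylow p G) :
    (groupFusionSystem (P : Subgroup G)).IsSimple p := by
  have hG := grpFS_sub H S hS.le
  have hF := hG.sat hS
  have := hS.finite
  have h1 : (fusionSystemOfSubgroup H S hS.le).IsSimple p := by
    refine hF.simple_of_sc h0 (fun T hT => ?_) fun E hE => ?_
    · obtain ⟨h1, h2⟩ := hG.sc_iff.1 hT
      exact or_iff_not_imp_left.2 fun h => le_antisymm h1 (ha T h1 h h2)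
    rw [hG.AutF_eq le_rfl]
    intro a ha
    obtain ⟨g, hg, hn, rfl⟩ := mem_AutK.1 ha
    have key : ∀ R ≤ S, ∀ g ∈ (homOn_cr R).pre (AutF E R), Mor E R (cp g) := fun R hR g hg =>
      (iso_of_AutF hR hg.2).mor.congr fun x hx => (cr_apply hg.1 hx).symm
    refine (hb (fun R => (homOn_cr R).pre (AutF E R)) ⟨fun R g hg => ?_, fun R hR => OppA_le_iff.2 ?_,
      fun R P hR hP hc g hg h hn => ⟨hn, Iso.res_mem ⟨hF.mor_of_centric hE.satE hE.sub (hG.mor_cp hP hg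
        ((cj_eq_of_mem_normalizer hn).le.trans hP)) R hR (centric_of_cent hG hS (hR.trans hP) hc)
          (key R (hR.trans hP) g h), maps_cp hn⟩⟩,
      fun R P hR hP g h hn => ⟨hn, Iso.res_mem ⟨(key P hP g h).mono hR, maps_cp hn⟩⟩⟩ g hg hn).2
    · have hn := centralizer_le_normalizer _ hg
      exact ⟨hn, by rw [(cr_eq_one_iff hn).2 hg]; exact one_mem _⟩
    rintro g hg ⟨k, hk⟩
    refine ⟨hg.2, hE.ppr.OppA_le hR (mem_OppA ?_ ⟨k, ?_⟩)⟩
    · rw [hG.AutF_eq hR]; exact cr_mem_AutK hg.1 hg.2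
    · rw [← (homOn_cr R).map_pow hg.2, hk, (homOn_cr R).map_one]
  have hH : img (ext1 θ) H = ⊤ := by rw [img_eq_range_of_eq θ fun x => (ext1_coe θ x).symm, MonoidHom.range_eq_top.2 hθ]
  have h2 : FIso (fusionSystemOfSubgroup H S hS.le) (ext1 θ) (groupFusionSystem (img (ext1 θ) S)) :=
    ⟨hG.epi (grpFS_group _) hS (homOn_ext1 θ) hH rfl, fun x hx e =>
      congrArg Subtype.val (hi ⟨x, hS.le hx⟩ hx ((ext1_apply θ _).symm.trans e))⟩
  exact simple_sylow (hH ▸ (homOn_ext1 θ).sylIn_img hS) (h2.simple hS.pg h1) P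

end Cfsg.Agent.FusE
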