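import Cfsg.Agent.FusE.Crit2
import Cfsg.Agent.PGrp.Basic

/-! Norm one quaternions over a finite field of odd order (`SL₂(q)`): the quaternion subgroup `Q8`, a Sylow
`2`-subgroup `Q ≥ Q8`, its normaliser (`normalizer_cases`) and its strongly closed subgroups (`le_of_sc`). -/

set_option autoImplicit false
set_option linter.unusedSectionVars false

namespace Cfsg.Agent.FusE

open Subgroup Cfsg Cfsg.Agent.Loc Quaternion

variable {F : Type*} [Field F] [Finite F] [NeZero (2 : F)]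

theorem sum_two_sq (d : F) : ∃ x y : F, x * x + y * y = d := by
  haveI := Fintype.ofFinite F
  obtain ⟨x, y, h⟩ := FiniteField.exists_root_sum_quadratic (R := F) (f := Polynomial.X ^ 2)
    (g := Polynomial.X ^ 2 - Polynomial.C d) (Polynomial.degree_X_pow 2) (Polynomial.degree_X_pow_sub_C two_pos _)
    (FiniteField.odd_card_of_char_ne_two fun h => by
      haveI := ringChar.charP F; rw [h] at this; exact NeZero.ne (2 : F) (CharP.cast_eq_zero F 2))
  exact ⟨x, y, by simp at h; linear_combination h⟩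

/-- Norm one quaternions. -/
abbrev L (F : Type*) [Field F] := unitary ℍ[F]

instance finiteQuat : Finite ℍ[F] := Finite.of_equiv _ (Quaternion.equivProd F).symm

/-- A quaternion given by its coordinates. -/
def qq (a b c d : F) : ℍ[F] := ⟨a, b, c, d⟩

@[simp] theorem qq_re (a b c d : F) : (qq a b c d).re = a := rfl
@[simp] theorem qq_imI (a b c d : F) : (qq a b c d).imI = b := rfl
@[simp] theorem qq_imJ (a b c d : F) : (qq a b c d).imJ = c := rfl
@[simp] theorem qq_imK (a b c d : F) : (qq a b c d).imK = d := rfl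

theorem mem_L {x : ℍ[F]} (h : x.re ^ 2 + x.imI ^ 2 + x.imJ ^ 2 + x.imK ^ 2 = 1) : x ∈ unitary ℍ[F] :=
  ⟨by rw [Quaternion.star_mul_self, normSq_def', h]; rfl, by rw [Quaternion.self_mul_star, normSq_def', h]; rfl⟩

theorem nrm (x : L F) : x.1.re ^ 2 + x.1.imI ^ 2 + x.1.imJ ^ 2 + x.1.imK ^ 2 = 1 := by
  have := congrArg QuaternionAlgebra.re x.2.2
  rwa [Quaternion.self_mul_star, normSq_def'] at this

theorem L_ext_iff {x y : L F} :
    x = y ↔ x.1.re = y.1.re ∧ x.1.imI = y.1.imI ∧ x.1.imJ = y.1.imJ ∧ x.1.imK = y.1.imK :=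
  ⟨fun h => h ▸ ⟨rfl, rfl, rfl, rfl⟩, fun h => Subtype.ext (Quaternion.ext _ _ h.1 h.2.1 h.2.2.1 h.2.2.2)⟩

@[simp] theorem L_inv (x : L F) : (x⁻¹).1 = star x.1 := rfl

/-- The unit `i`. -/
def qi : L F := ⟨qq 0 1 0 0, mem_L (by simp)⟩
/-- The unit `j`. -/
def qj : L F := ⟨qq 0 0 1 0, mem_L (by simp)⟩
/-- The unit `k`. -/
def qk : L F := ⟨qq 0 0 0 1, mem_L (by simp)⟩
/-- The element `(1 + i + j + k) / 2`. -/
def qw : L F := ⟨qq 2⁻¹ 2⁻¹ 2⁻¹ 2⁻¹, mem_L (by have := NeZero.ne (2 : F); simp only [qq]; field_simp; norm_num)⟩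

@[simp] theorem L_neg (x : L F) : (-x).1 = -x.1 := rfl
@[simp] theorem coe_qi : (qi : L F).1 = qq 0 1 0 0 := rfl
@[simp] theorem coe_qj : (qj : L F).1 = qq 0 0 1 0 := rfl
@[simp] theorem coe_qk : (qk : L F).1 = qq 0 0 0 1 := rfl
@[simp] theorem coe_qw : (qw : L F).1 = qq 2⁻¹ 2⁻¹ 2⁻¹ 2⁻¹ := rfl

theorem qw_i : (qw : L F) * qi = qj * qw := L_ext_iff.2 (by simp)
theorem qw_j : (qw : L F) * qj = qk * qw := L_ext_iff.2 (by simp)
theorem qw_k : (qw : L F) * qk = qi * qw := L_ext_iff.2 (by simp)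
theorem qi_j : (qi : L F) * qj = qk := L_ext_iff.2 (by simp)
theorem qj_i : (qj : L F) * qi = -(qi * qj) := L_ext_iff.2 (by simp)

theorem eq_zero_of_two {a : F} (h : 2 * a = 0) : a = 0 := (mul_eq_zero.1 h).resolve_left (NeZero.ne 2)

theorem neg_ne_self' (x : L F) : -x ≠ x := fun h => by
  have h1 := nrm x
  obtain ⟨h2, h3, h4, h5⟩ := L_ext_iff.1 h
  simp only [Unitary.coe_neg, re_neg, imI_neg, imJ_neg, imK_neg, neg_eq_iff_add_eq_zero, ← two_mul, mul_eq_zero,
    NeZero.ne (2 : F), false_or] at h2 h3 h4 h5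
  simp [h2, h3, h4, h5] at h1

theorem real_eq {x : L F} (h1 : x.1.imI = 0) (h2 : x.1.imJ = 0) (h3 : x.1.imK = 0) : x = 1 ∨ x = -1 := by
  have h := nrm x
  rw [h1, h2, h3] at h
  exact (sq_eq_one_iff (a := x.1.re)).1 (by simpa using h) |>.imp
    (fun e => L_ext_iff.2 (by simp [*])) fun e => L_ext_iff.2 (by simp [*])

variable {x y c u g : L F}

theorem re_conj (g x : L F) : (g * x * g⁻¹).1.re = x.1.re := by
  simp; linear_combination x.1.re * nrm g

theorem pure_of_anti (h : x * c = -(c * x)) : x.1.re = 0 := by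
  have h1 := re_conj c x
  rw [← neg_eq_iff_eq_neg.2 h, neg_mul, mul_inv_cancel_right, Unitary.coe_neg, re_neg] at h1
  exact eq_zero_of_two (by linear_combination -h1)

theorem comm_pure (hc : c.1.re = 0) (h : u * c = c * u) :
    ∃ l, u.1.imI = l * c.1.imI ∧ u.1.imJ = l * c.1.imJ ∧ u.1.imK = l * c.1.imK := by
  obtain ⟨-, h1, h2, h3⟩ := L_ext_iff.1 h
  simp only [Submonoid.coe_mul, imI_mul, imJ_mul, imK_mul] at h1 h2 h3
  have hn := nrm c
  rw [hc] at hn
  refine ⟨u.1.imI * c.1.imI + u.1.imJ * c.1.imJ + u.1.imK * c.1.imK, sub_eq_zero.1 (eq_zero_of_two ?_),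
    sub_eq_zero.1 (eq_zero_of_two ?_), sub_eq_zero.1 (eq_zero_of_two ?_)⟩
  · linear_combination -2 * u.1.imI * hn + c.1.imJ * h3 - c.1.imK * h2
  · linear_combination -2 * u.1.imJ * hn + c.1.imK * h1 - c.1.imI * h3
  · linear_combination -2 * u.1.imK * hn + c.1.imI * h2 - c.1.imJ * h1

theorem eq_of_comm_pure (hx : x.1.re = 0) (hc : c.1.re = 0) (h : x * c = c * x) : x = c ∨ x = -c := by
  obtain ⟨l, h1, h2, h3⟩ := comm_pure hc h
  have : l ^ 2 = 1 := by
    have := nrm x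
    rw [hx, h1, h2, h3] at this
    linear_combination this - l ^ 2 * nrm c + l ^ 2 * c.1.re * hc
  exact (sq_eq_one_iff.1 this).imp (fun e => L_ext_iff.2 (by simp [*])) fun e => L_ext_iff.2 (by simp [*])

theorem conj_inv (hc : c.1.re = 0) (h : u * c = c * u) (hy : y * c = -(c * y)) : y * u = u⁻¹ * y := by
  obtain ⟨l, h1, h2, h3⟩ := comm_pure hc h
  have h4 := pure_of_anti hy
  have h5 := (L_ext_iff.1 hy).1
  simp only [Submonoid.coe_mul, re_mul, Unitary.coe_neg, re_neg] at h5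
  refine L_ext_iff.2 ?_
  simp only [Submonoid.coe_mul, re_mul, imI_mul, imJ_mul, imK_mul, L_inv, re_star, imI_star, imJ_star, imK_star,
    h1, h2, h3, h4]
  refine ⟨by linear_combination l * h5 - 2 * l * c.1.re * h4, by ring, by ring, by ring⟩

theorem real_of_comm (hc : c.1.re = 0) (hy : y.1.re = 0) (h0 : ¬ (y = c ∨ y = -c)) (h : u * c = c * u)
    (h' : u * y = y * u) : u = 1 ∨ u = -1 := by
  obtain ⟨l, h1, h2, h3⟩ := comm_pure hc h
  rcases eq_or_ne l 0 with rfl | hl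
  · exact real_eq (by simpa using h1) (by simpa using h2) (by simpa using h3)
  obtain ⟨-, h4, h5, h6⟩ := L_ext_iff.1 h'
  simp only [Submonoid.coe_mul, imI_mul, imJ_mul, imK_mul, h1, h2, h3] at h4 h5 h6
  refine (h0 (eq_of_comm_pure hy hc (L_ext_iff.2 ?_))).elim
  simp only [Submonoid.coe_mul, re_mul, imI_mul, imJ_mul, imK_mul]
  exact ⟨by ring, mul_left_cancel₀ hl (by linear_combination -h4), mul_left_cancel₀ hl (by linear_combination -h5),
    mul_left_cancel₀ hl (by linear_combination -h6)⟩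

theorem pm_of_sq (h : x * x = 1 ∨ x * x = -1) : (x = 1 ∨ x = -1) ∨ x.1.re = 0 := by
  rcases h with h | h
  · obtain ⟨-, h1, h2, h3⟩ := L_ext_iff.1 (eq_inv_of_mul_eq_one_left h)
    simp only [L_inv, imI_star, imJ_star, imK_star] at h1 h2 h3
    exact .inl (real_eq (eq_zero_of_two (by linear_combination h1)) (eq_zero_of_two (by linear_combination h2))
      (eq_zero_of_two (by linear_combination h3)))
  · have := (L_ext_iff.1 h).1
    simp only [Submonoid.coe_mul, re_mul, Unitary.coe_neg, re_neg, OneMemClass.coe_one, re_one] at this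
    exact .inr (pow_eq_zero_iff two_ne_zero |>.1 (eq_zero_of_two (by linear_combination this + nrm x)))

theorem exists_conj_pure (hx : x.1.re = 0) (hy : y.1.re = 0) (h : (x * y⁻¹).1.re ≠ -1) : ∃ v : L F, v * y * v⁻¹ = x := by
  have hn : 2 * ((x * y⁻¹).1.re + 1) ≠ 0 := fun e => h (by linear_combination eq_zero_of_two e)
  obtain ⟨a, b, hab⟩ := sum_two_sq (2 * ((x * y⁻¹).1.re + 1))⁻¹
  have h1 := nrm x
  have h2 := nrm y
  refine ⟨⟨(x.1 + y.1) * (qq a 0 0 0 + b • y.1), mem_L ?_⟩, mul_inv_eq_iff_eq_mul.2 (L_ext_iff.2 ?_)⟩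
  · rw [← normSq_def', map_mul, normSq_def', normSq_def']
    refine Eq.trans ?_ (mul_inv_cancel₀ hn)
    rw [← hab]
    simp only [hx, hy] at h1 h2
    congr 1 <;> simp [hx, hy]
    · linear_combination h1 + h2
    · linear_combination b ^ 2 * h2
  · simp only [hx, hy] at h1 h2
    simp [hx, hy]
    refine ⟨?_, ?_, ?_, ?_⟩
    · linear_combination a * h1 - a * h2
    · linear_combination b * y.1.imI * h1 - b * y.1.imI * h2
    · linear_combination b * y.1.imJ * h1 - b * y.1.imJ * h2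
    · linear_combination b * y.1.imK * h1 - b * y.1.imK * h2

/-- The elements commuting with `c` up to sign. -/
def CG {M : Type*} [Group M] [HasDistribNeg M] (c : M) : Subgroup M where
  carrier := {x | x * c = c * x ∨ x * c = -(c * x)}
  one_mem' := .inl (by simp)
  mul_mem' := by
    rintro a b (h | h) (h' | h') <;> simp [mul_assoc, h'] <;> simp [← mul_assoc, h]
  inv_mem' := by
    rintro a (h | h)
    · exact .inl (show Commute a c from h).inv_left
    · exact .inr (by rw [inv_mul_eq_iff_eq_mul, mul_neg, ← mul_assoc, h]; simp)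

theorem mem_CG {M : Type*} [Group M] [HasDistribNeg M] {c x : M} : x ∈ CG c ↔ x * c = c * x ∨ x * c = -(c * x) :=
  Iff.rfl

theorem mem_CG' {M : Type*} [Group M] [HasDistribNeg M] {c x : M} :
    x ∈ CG c ↔ x * c * x⁻¹ = c ∨ x * c * x⁻¹ = -c := by
  rw [mem_CG, mul_inv_eq_iff_eq_mul, mul_inv_eq_iff_eq_mul, neg_mul]

theorem sq_comm (h : x ∈ CG c) : x * x * c = c * (x * x) := by
  rcases h with h | h <;> simp [mul_assoc, h] <;> simp [← mul_assoc, h]

theorem CG_conj {M : Type*} [Group M] [HasDistribNeg M] {c x : M} (h : x ∈ CG c) (g : M) :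
    g * x * g⁻¹ ∈ CG (g * c * g⁻¹) := by
  rcases h with h | h <;> [left; right] <;> simp [mul_assoc] <;> simp [← mul_assoc, h]

variable (F) in
/-- The quaternion group of order eight. -/
def Q8 : Subgroup (L F) := CG qi ⊓ CG qj

theorem real_of_ij (h : u * qi = qi * u) (h' : u * qj = qj * u) : u = 1 ∨ u = -1 :=
  real_of_comm rfl rfl (by simp [L_ext_iff]) h h'

theorem isPGroup_Q8 : IsPGroup 2 (Q8 F) := fun ⟨x, h1, h2⟩ => ⟨2, Subtype.ext (by
  change x ^ 4 = 1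
  rw [show x ^ 4 = x * x * (x * x) by simp [pow_succ, mul_assoc]]
  rcases real_of_ij (sq_comm h1) (sq_comm h2) with h | h <;> simp [h])⟩

theorem qi_mem : qi ∈ Q8 F := ⟨.inl rfl, .inr (by simp [qj_i])⟩
theorem qj_mem : qj ∈ Q8 F := ⟨.inr qj_i, .inl rfl⟩
theorem qk_mem : qk ∈ Q8 F := qi_j (F := F) ▸ mul_mem qi_mem qj_mem
theorem neg_mem_Q8 (h : x ∈ Q8 F) : -x ∈ Q8 F := by simpa [Q8, mem_CG, neg_eq_iff_eq_neg] using h

theorem Q8_cases (h : x ∈ Q8 F) : (x = 1 ∨ x = -1) ∨ (x = qi ∨ x = -qi) ∨ (x = qj ∨ x = -qj) ∨ (x = qk ∨ x = -qk) := by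
  obtain ⟨h1 | h1, h2 | h2⟩ := h
  · exact .inl (real_of_ij h1 h2)
  · exact .inr (.inl (eq_of_comm_pure (pure_of_anti h2) rfl h1))
  · exact .inr (.inr (.inl (eq_of_comm_pure (pure_of_anti h1) rfl h2)))
  · exact .inr (.inr (.inr (eq_of_comm_pure (pure_of_anti h1) rfl (by
      rw [← qi_j, ← mul_assoc, h1, neg_mul, mul_assoc, h2]; simp [mul_assoc]))))

theorem qw_mem_normalizer : qw ∈ normalizer (Q8 F : Set (L F)) :=
  mem_normalizer_of_cj_le (cj_le_iff_forall.2 fun x hx => ⟨by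
    have := CG_conj (c := qk) (x := x) (by
      rcases Q8_cases hx with (rfl | rfl) | (rfl | rfl) | (rfl | rfl) | (rfl | rfl) <;>
        simp [mem_CG, L_ext_iff]) qw
    rwa [qw_k, mul_inv_cancel_right] at this, by
    have := CG_conj hx.1 qw
    rwa [qw_i, mul_inv_cancel_right] at this⟩)

variable {Q : Subgroup (L F)}

theorem exists_anti (hc : c.1.re = 0) (h : c ∈ Q8 F) : ∃ y ∈ Q8 F, y * c = -(c * y) := by
  obtain ⟨h1 | h1, h2 | h2⟩ := h
  · rcases real_of_ij h1 h2 with rfl | rfl <;> simp [re_one] at hc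
  · exact ⟨qj, qj_mem, by simp [h2]⟩
  · exact ⟨qi, qi_mem, by simp [h1]⟩
  · exact ⟨qi, qi_mem, by simp [h1]⟩

theorem exists_c (hQ : IsPGroup 2 Q) (h8 : Q8 F ≤ Q) : ∃ c ∈ Q8 F, c.1.re = 0 ∧ Q ≤ CG c := by
  have hm : ∀ x : L F, x ∈ zpowers (-1 : L F) ↔ x = 1 ∨ x = -1 := fun x => ⟨by
    rintro ⟨n, rfl⟩; exact (Int.even_or_odd n).imp (fun h => h.neg_one_zpow) fun h => h.neg_one_zpow,
    by rintro (rfl | rfl); exacts [one_mem _, mem_zpowers _]⟩
  haveI : (zpowers (-1 : L F)).Normal := ⟨fun x hx g => by rcases (hm x).1 hx with rfl | rfl <;> simp⟩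
  haveI := hQ.isNilpotent
  obtain ⟨c, -, h1, h2⟩ := PGrp.exists_central_mod (M := (zpowers (-1 : L F)).subgroupOf Q) (N := ⊤) fun h => by
    simpa [mem_subgroupOf, hm, L_ext_iff] using h (mem_top ⟨qi, h8 qi_mem⟩)
  have h3 : ∀ g ∈ Q, c.1 ∈ CG g := fun g hg => by
    have := (hm _).1 (h2 ⟨g, hg⟩)
    simpa [commutatorElement_def, mul_inv_eq_iff_eq_mul, mem_CG] using this
  have h4 : c.1 ∈ Q8 F := ⟨h3 _ (h8 qi_mem), h3 _ (h8 qj_mem)⟩
  refine ⟨c, h4, (pm_of_sq (real_of_ij (sq_comm h4.1) (sq_comm h4.2))).resolve_left fun h => h1 ((hm _).2 h),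
    fun g hg => (h3 g hg).imp Eq.symm fun h => by simp [h]⟩

theorem mem_of_norm (hQ : SylIn 2 Q ⊤) (h8 : Q8 F ≤ Q) (hc8 : c ∈ Q8 F) (hc : c.1.re = 0)
    (hu : u ∈ normalizer (Q : Set (L F))) (h : u ∈ CG c) : u ∈ Q := by
  obtain ⟨y, hy, h1⟩ := exists_anti hc hc8
  have h2 := mul_mem (conj_mem_of_mem_normalizer (mul_mem hu hu) (h8 hy)) (inv_mem (h8 hy))
  rw [mul_assoc _ y, conj_inv hc (Commute.inv_left (sq_comm h)) h1, inv_inv, ← mul_assoc, mul_inv_cancel_right] at h2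
  obtain ⟨k, hk⟩ := hQ.pg ⟨_, h2⟩
  refine hQ.le_of_normalizes le_top (isPGroup_zpowers_of_pow (k := 2 + k) ?_) (zpowers_le.2 hu) (mem_zpowers u)
  rw [pow_add, pow_mul, show u ^ 2 ^ 2 = u * u * (u * u) by simp [pow_succ, mul_assoc]]
  exact congrArg Subtype.val hk

theorem normalizer_cases (hQ : SylIn 2 Q ⊤) (h8 : Q8 F ≤ Q) {X : Subgroup (L F)} (hX : Q ≤ X)
    (hw : qw ∈ normalizer (Q : Set (L F)) → qw ∈ X) (hu : u ∈ normalizer (Q : Set (L F))) : u ∈ X := by
  obtain ⟨c, hc8, hc, hcQ⟩ := exists_c hQ.pg h8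
  by_cases h : u ∈ CG c
  · exact hX (mem_of_norm hQ h8 hc8 hc hu h)
  have key : ∀ g ∈ Q, (g = 1 ∨ g = -1) ∨ g.1.re = 0 := fun g hg => pm_of_sq (real_of_comm hc
    ((re_conj u c).trans hc) (mem_CG'.not.1 h) (sq_comm (hcQ hg)) (sq_comm (by
      simpa [mul_assoc] using CG_conj (hcQ (conj_inv_mem_of_mem_normalizer hu hg)) u)))
  have pm : ∀ g : L F, g = 1 ∨ g = -1 → g ∈ Q8 F := by
    rintro _ (rfl | rfl); exacts [one_mem _, neg_mem_Q8 (one_mem _)]
  obtain rfl : Q = Q8 F := le_antisymm (fun g hg => by_contra fun h0 => by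
    have h1 := (key g hg).resolve_left fun e => h0 (pm _ e)
    have h2 := (key _ (mul_mem hg (h8 qi_mem))).resolve_left fun e => h0 ((mul_mem_cancel_right qi_mem).1 (pm _ e))
    have h3 := (key _ (mul_mem hg (h8 qj_mem))).resolve_left fun e => h0 ((mul_mem_cancel_right qj_mem).1 (pm _ e))
    have h4 := (key _ (mul_mem hg (h8 qk_mem))).resolve_left fun e => h0 ((mul_mem_cancel_right qk_mem).1 (pm _ e))
    simp at h2 h3 h4
    simpa [h1, h2, h3, h4] using nrm g) h8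
  have hw' := qw_mem_normalizer (F := F)
  have fin : ∀ v ∈ normalizer (Q8 F : Set (L F)), v ∈ CG qi → v ∈ X := fun v hv h =>
    hX (mem_of_norm hQ h8 qi_mem rfl hv h)
  rcases Q8_cases (conj_mem_of_mem_normalizer hu qi_mem) with h1 | h1 | h1 | h1
  · have := re_conj u qi
    rcases h1 with h1 | h1 <;> simp [h1, re_one] at this
  · exact fin u hu (mem_CG'.2 h1)
  · refine (mul_mem_cancel_left (inv_mem (hw hw'))).1 (fin _ (mul_mem (inv_mem hw') hu) (mem_CG'.2 ?_))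
    rw [show qw⁻¹ * u * qi * (qw⁻¹ * u)⁻¹ = qw⁻¹ * (u * qi * u⁻¹ * qw) by group]
    rcases h1 with h1 | h1 <;> simp [h1, ← qw_i]
  · refine (mul_mem_cancel_left (hw hw')).1 (fin _ (mul_mem hw' hu) (mem_CG'.2 ?_))
    rw [show qw * u * qi * (qw * u)⁻¹ = qw * (u * qi * u⁻¹) * qw⁻¹ by group]
    rcases h1 with h1 | h1 <;> simp [h1, qw_k]

theorem le_of_sc (hQ : IsPGroup 2 Q) (h8 : Q8 F ≤ Q) {W : Subgroup (L F)} (h : SC ⊤ Q W) (hk : qk ∈ W) : Q ≤ W := by
  have hi : qi ∈ W := by simpa [qw_k] using h _ hk qw trivial (by simpa [qw_k] using h8 qi_mem)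
  have hj : qj ∈ W := by simpa [qw_i] using h _ hi qw trivial (by simpa [qw_i] using h8 qj_mem)
  have hn : ∀ x ∈ W, -x ∈ W := fun x hx => by
    convert mul_mem hx (mul_mem hi hi) using 1; simp [L_ext_iff]
  obtain ⟨c, hc8, hc, hcQ⟩ := exists_c hQ h8
  obtain ⟨y, hy, h1⟩ := exists_anti hc hc8
  have hyW : y ∈ W := by
    rcases Q8_cases hy with (rfl | rfl) | (rfl | rfl) | (rfl | rfl) | (rfl | rfl)
    exacts [one_mem _, hn _ (one_mem _), hi, hn _ hi, hj, hn _ hj, hk, hn _ hk]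
  have key : ∀ x ∈ Q, x * c = -(c * x) → x ∈ W := fun x hx h2 => by
    by_cases h3 : (x * y⁻¹).1.re = -1
    · obtain ⟨l, h4, h5, h6⟩ := comm_pure (u := x * y⁻¹) hc (by
        rw [mul_assoc, show y⁻¹ * c = -(c * y⁻¹) by rw [inv_mul_eq_iff_eq_mul, mul_neg, ← mul_assoc, h1]; simp,
          mul_neg, ← mul_assoc, h2]; simp [mul_assoc])
      have h7 := nrm (x * y⁻¹)
      rw [h3, h4, h5, h6] at h7
      obtain rfl : l = 0 := pow_eq_zero_iff two_ne_zero |>.1 (by
        linear_combination h7 - l ^ 2 * nrm c + l ^ 2 * c.1.re * hc)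
      rw [mul_inv_eq_iff_eq_mul.1 (L_ext_iff.2 ⟨h3, by simpa using h4, by simpa using h5, by simpa using h6⟩ :
        x * y⁻¹ = -1), neg_one_mul]
      exact hn _ hyW
    · obtain ⟨v, rfl⟩ := exists_conj_pure (pure_of_anti h2) (pure_of_anti h1) h3
      exact h _ hyW v trivial hx
  intro g hg
  rcases hcQ hg with h2 | h2
  · exact (mul_mem_cancel_right hyW).1 (key _ (mul_mem hg (h8 hy)) (by rw [mul_assoc, h1, mul_neg, ← mul_assoc, h2, mul_assoc]))
  · exact key g hg h2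

end Cfsg.Agent.FusE
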