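import Cfsg.Agent.FusE.Quat1

/-! The unitary group of rank two over the quaternions of a finite field of odd order (`Sp₄(q)`): the `2`-fusion
system of its quotient by `±1` is simple (`simple_HH`). -/

set_option autoImplicit false
set_option linter.unusedSectionVars false

namespace Cfsg.Agent.FusE

open Subgroup Cfsg Cfsg.Agent.Loc Cfsg.Agent.Fus Quaternion Matrix

theorem CG_mul {M : Type*} [Group M] [HasDistribNeg M] {a b x : M} (h : x ∈ CG a) (h' : x ∈ CG b) :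
    x ∈ CG (a * b) := by
  rcases h with h | h <;> rcases h' with h' | h' <;> simp [mem_CG, ← mul_assoc, h] <;> simp [mul_assoc, h']

theorem CG_symm {M : Type*} [Group M] [HasDistribNeg M] {a x : M} (h : x ∈ CG a) : a ∈ CG x :=
  h.imp Eq.symm fun h => by simp [h]

theorem CG_neg {M : Type*} [Group M] [HasDistribNeg M] {a x : M} : x ∈ CG (-a) ↔ x ∈ CG a := by
  simp [mem_CG, neg_eq_iff_eq_neg, or_comm]

variable {F : Type*} [Field F] [Finite F] [NeZero (2 : F)]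

/-- The unitary group of rank two over the quaternions. -/
abbrev HH (F : Type*) [Field F] := unitary (Matrix (Fin 2) (Fin 2) ℍ[F])

theorem mem_HH {A : Matrix (Fin 2) (Fin 2) ℍ[F]} (h : A * star A = 1) : A ∈ unitary (Matrix (Fin 2) (Fin 2) ℍ[F]) :=
  ⟨mul_eq_one_comm.1 h, h⟩

theorem HH_ext_iff {x y : HH F} :
    x = y ↔ x.1 0 0 = y.1 0 0 ∧ x.1 0 1 = y.1 0 1 ∧ x.1 1 0 = y.1 1 0 ∧ x.1 1 1 = y.1 1 1 := by
  rw [Subtype.ext_iff, ← Matrix.ext_iff]; simp [Fin.forall_fin_two, and_assoc]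

/-- Diagonal matrices. -/
def dq : L F × L F →* HH F where
  toFun p := ⟨!![p.1.1, 0; 0, p.2.1], mem_HH (by
    ext i j : 1; fin_cases i <;> fin_cases j <;> simp [mul_apply, p.1.2.2, p.2.2.2])⟩
  map_one' := HH_ext_iff.2 (by simp)
  map_mul' a b := HH_ext_iff.2 (by simp)

/-- The swap. -/
def sw : HH F := ⟨!![0, 1; 1, 0], mem_HH (by ext i j : 1; fin_cases i <;> fin_cases j <;> simp [mul_apply])⟩

/-- The element `(1 + a) / 2`. -/
def ee (a : L F) : ℍ[F] := (2⁻¹ : F) • (1 + a.1)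

theorem ee_star {a : L F} (h : a.1.re = 0) : ee a * star (ee a) + ee a * star (ee a) = 1 := by
  have := NeZero.ne (2 : F)
  ext <;> simp [ee, h] <;> field_simp <;> first | ring1 | linear_combination 2 * nrm a - 2 * a.1.re * h

theorem ee_sq {a : L F} (h : a.1.re = 0) : ee a * ee a + ee a * ee a = a.1 := by
  have := NeZero.ne (2 : F)
  ext <;> simp [ee, h] <;> field_simp <;> first | ring1 | linear_combination -2 * nrm a + 2 * a.1.re * h

/-- The element `(1 + a) / 2 • [[1, 1], [1, -1]]`. -/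
def hh (a : L F) (h : a.1.re = 0) : HH F :=
  ⟨!![ee a, ee a; ee a, -ee a], mem_HH (by
    ext i j : 1; fin_cases i <;> fin_cases j <;> simp [mul_apply, ee_star h])⟩

@[simp] theorem coe_dq (u v : L F) : (dq (u, v)).1 = !![u.1, 0; 0, v.1] := rfl
@[simp] theorem coe_sw : (sw : HH F).1 = !![0, 1; 1, 0] := rfl
@[simp] theorem HH_neg (x : HH F) : (-x).1 = -x.1 := rfl

variable {u v u' v' : L F} {x : HH F}

theorem sw_dq (u v : L F) : sw * dq (u, v) = dq (v, u) * sw := HH_ext_iff.2 (by simp)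
theorem sw_sw : (sw : HH F) * sw = 1 := HH_ext_iff.2 (by simp)
theorem sw_inv : (sw : HH F)⁻¹ = sw := inv_eq_of_mul_eq_one_left sw_sw
theorem neg_dq (u v : L F) : -dq (u, v) = dq (-u, -v) := HH_ext_iff.2 (by simp)
theorem dq_mul (u v u' v' : L F) : dq (u, v) * dq (u', v') = dq (u * u', v * v') := (map_mul dq _ _).symm
theorem dq_inv (u v : L F) : (dq (u, v))⁻¹ = dq (u⁻¹, v⁻¹) := (map_inv dq _).symm
theorem dq_inj : dq (u, v) = dq (u', v') ↔ u = u' ∧ v = v' := by simp [HH_ext_iff]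
theorem dq_ne : dq (u, v) ≠ dq (u', v') * sw := fun h => by
  have := nrm u
  rw [show u.1 = 0 by simpa using (HH_ext_iff.1 h).1] at this
  simp at this

/-- The involution `diag(1, -1)`. -/
abbrev zz : HH F := dq (1, -1)

theorem zero_of_neg {a : ℍ[F]} (h : a = -a) : a = 0 := by
  ext <;> [have := congrArg QuaternionAlgebra.re h; have := congrArg QuaternionAlgebra.imI h;
    have := congrArg QuaternionAlgebra.imJ h; have := congrArg QuaternionAlgebra.imK h] <;>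
    exact eq_zero_of_two (by simp only [re_neg, imI_neg, imJ_neg, imK_neg, re_zero, imI_zero, imJ_zero, imK_zero] at this; linear_combination this)

theorem diag_of_comm (h : x * zz = zz * x) : ∃ u v, x = dq (u, v) := by
  obtain ⟨-, h1, h2, -⟩ := HH_ext_iff.1 h
  have h3 : x.1 0 1 = 0 := zero_of_neg (by simpa [mul_apply, vecMul, dotProduct] using h1.symm)
  have h4 : x.1 1 0 = 0 := zero_of_neg (by simpa [mul_apply, vecMul, dotProduct] using h2)
  have h5 := fun i => congrFun (congrFun x.2.1 i) i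
  have h6 := fun i => congrFun (congrFun x.2.2 i) i
  exact ⟨⟨x.1 0 0, by simpa [mul_apply, h4] using h5 0, by simpa [mul_apply, h3] using h6 0⟩,
    ⟨x.1 1 1, by simpa [mul_apply, h3] using h5 1, by simpa [mul_apply, h4] using h6 1⟩,
    HH_ext_iff.2 (by simp [h3, h4])⟩

theorem CG_zz (h : x ∈ CG zz) : ∃ u v, x = dq (u, v) ∨ x = dq (u, v) * sw := by
  rcases h with h | h
  · obtain ⟨u, v, h⟩ := diag_of_comm h; exact ⟨u, v, .inl h⟩
  · obtain ⟨u, v, h⟩ := diag_of_comm (x := x * sw) (by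
      rw [mul_assoc, sw_dq, show dq (-1, 1) = -(zz : HH F) by simp [neg_dq], neg_mul, mul_neg, ← mul_assoc, h]
      simp [mul_assoc])
    exact ⟨u, v, .inr (by rw [← h, mul_assoc, sw_sw, mul_one])⟩

theorem pm_zz (h1 : x ∈ CG zz) (h2 : x ∈ CG sw) (h3 : x ∈ CG (dq (qi, 1))) (h4 : x ∈ CG (dq (qj, 1))) :
    (x = 1 ∨ x = -1) ∨ x = zz ∨ x = -zz := by
  obtain ⟨u, v, rfl | rfl⟩ := CG_zz h1
  · simp only [mem_CG, dq_mul, neg_dq, dq_inj, sw_dq, ← neg_mul, mul_left_inj, mul_one, one_mul,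
      (neg_ne_self' _).symm, and_true, and_false, or_false] at h2 h3 h4
    obtain rfl | rfl : v = u ∨ v = -u := h2.imp (fun h => h.2) fun h => h.2
    all_goals rcases real_of_ij h3 h4 with rfl | rfl <;> simp [← map_one dq, Prod.one_eq_mk, neg_dq, dq_inj]
  · rw [mem_CG, mul_assoc, sw_dq, ← mul_assoc, ← mul_assoc, ← neg_mul, dq_mul, dq_mul, neg_dq] at h3
    simp only [mul_left_inj, dq_inj, mul_one, one_mul, mul_eq_left] at h3
    rcases h3 with ⟨-, h⟩ | ⟨-, h⟩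
    · simpa using (L_ext_iff.1 h).2.1
    · simpa using (L_ext_iff.1 (mul_left_cancel (h.trans (mul_neg_one v).symm))).2.1

/-- The wreath product `Q ≀ 2`. -/
def SS (Q : Subgroup (L F)) : Subgroup (HH F) where
  carrier := {x | ∃ u ∈ Q, ∃ v ∈ Q, x = dq (u, v) ∨ x = dq (u, v) * sw}
  one_mem' := ⟨1, one_mem _, 1, one_mem _, .inl (map_one dq).symm⟩
  mul_mem' := by
    rintro _ _ ⟨a, ha, b, hb, rfl | rfl⟩ ⟨c, hc, d, hd, rfl | rfl⟩
    · exact ⟨_, mul_mem ha hc, _, mul_mem hb hd, .inl (dq_mul ..)⟩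
    · exact ⟨_, mul_mem ha hc, _, mul_mem hb hd, .inr (by rw [← mul_assoc, dq_mul])⟩
    · exact ⟨_, mul_mem ha hd, _, mul_mem hb hc, .inr (by rw [mul_assoc, sw_dq, ← mul_assoc, dq_mul])⟩
    · exact ⟨_, mul_mem ha hd, _, mul_mem hb hc, .inl (by
        rw [mul_assoc, ← mul_assoc sw, sw_dq, mul_assoc, sw_sw, mul_one, dq_mul])⟩
  inv_mem' := by
    rintro _ ⟨a, ha, b, hb, rfl | rfl⟩
    · exact ⟨_, inv_mem ha, _, inv_mem hb, .inl (dq_inv ..)⟩
    · exact ⟨_, inv_mem hb, _, inv_mem ha, .inr (by rw [_root_.mul_inv_rev, sw_inv, dq_inv, sw_dq])⟩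

variable {Q : Subgroup (L F)}

theorem dq_mem : dq (u, v) ∈ SS Q ↔ u ∈ Q ∧ v ∈ Q :=
  ⟨by rintro ⟨a, ha, b, hb, h | h⟩; exacts [by simp [dq_inj.1 h, ha, hb], (dq_ne h).elim],
    fun h => ⟨u, h.1, v, h.2, .inl rfl⟩⟩

theorem sw_mem : sw ∈ SS Q := ⟨1, one_mem _, 1, one_mem _, .inr (by rw [← Prod.one_eq_mk, map_one, one_mul])⟩

theorem isPGroup_SS (hQ : IsPGroup 2 Q) : IsPGroup 2 (SS Q) := by
  have key : ∀ u ∈ Q, ∀ v ∈ Q, ∃ k, dq (u, v) ^ 2 ^ k = 1 := fun u hu v hv => by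
    obtain ⟨k, hk⟩ := exists_pow_of_isPGroup hQ hu
    obtain ⟨l, hl⟩ := exists_pow_of_isPGroup hQ hv
    exact ⟨k + l, by rw [← map_pow, Prod.pow_mk, pow_add, pow_mul, hk, mul_comm, pow_mul, hl, one_pow, one_pow,
      ← Prod.one_eq_mk, map_one]⟩
  rintro ⟨_, a, ha, b, hb, rfl | rfl⟩
  · simpa [Subtype.ext_iff] using key a ha b hb
  · obtain ⟨k, hk⟩ := key _ (mul_mem ha hb) _ (mul_mem hb ha)
    refine ⟨k + 1, Subtype.ext ?_⟩
    rw [SubmonoidClass.coe_pow, pow_succ', pow_mul, pow_two, mul_assoc, ← mul_assoc sw, sw_dq, mul_assoc, sw_sw,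
      mul_one, dq_mul, hk, OneMemClass.coe_one]

variable (F) in
/-- The extraspecial group `2^{1+4}`. -/
def RR : Subgroup (HH F) := (CG (dq (qi, qi)) ⊓ CG (dq (qj, qj))) ⊓ (CG zz ⊓ CG sw)

theorem RR_le (h8 : Q8 F ≤ Q) : RR F ≤ SS Q := by
  have key : ∀ u v : L F, dq (u, v) ∈ RR F → dq (u, v) ∈ SS Q := fun u v h => by
    obtain ⟨h1, h2⟩ := mem_inf.1 h.1
    simp only [mem_CG, dq_mul, neg_dq, dq_inj] at h1 h2
    exact dq_mem.2 ⟨h8 ⟨h1.imp And.left And.left, h2.imp And.left And.left⟩,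
      h8 ⟨h1.imp And.right And.right, h2.imp And.right And.right⟩⟩
  intro x hx
  obtain ⟨u, v, rfl | rfl⟩ := CG_zz hx.2.1
  · exact key u v hx
  · refine mul_mem (key u v ((mul_mem_cancel_right ?_).1 hx)) sw_mem
    simp [RR, mem_CG, sw_dq, ← neg_mul, neg_dq]

theorem hh_mem {a a' : L F} (h : a.1.re = 0) (h' : a * a' = -(a' * a))
    (hR : RR F = (CG (dq (a, a)) ⊓ CG (dq (a', a'))) ⊓ (CG zz ⊓ CG sw)) :
    hh a h ∈ normalizer (RR F : Set (HH F)) ∧ hh a h ^ 2 ^ 3 = 1 ∧ hh a h * zz * (hh a h)⁻¹ = sw := by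
  have h6 : a * a = -1 := L_ext_iff.2 (by simp [h, mul_comm]; linear_combination -nrm a + a.1.re * h)
  have h7 : a.1 * a.1 = -1 := congrArg Subtype.val h6
  have h8 : a.1 * a'.1 = -(a'.1 * a.1) := congrArg Subtype.val h'
  have h1 : hh a h * dq (a, a) = dq (a, a) * hh a h := HH_ext_iff.2 (by simp [hh, ee, mul_add, add_mul])
  have h2 : hh a h * (dq (a', a') * dq (a, a)) = dq (a', a') * hh a h := HH_ext_iff.2 (by
    simp [hh, ee, mul_add, add_mul, ← mul_assoc, h8]; simp [mul_assoc, h7, add_comm])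
  have h3 : hh a h * zz = sw * hh a h := HH_ext_iff.2 (by simp [hh])
  have h4 : hh a h * sw = zz * hh a h := HH_ext_iff.2 (by simp [hh])
  have h5 : hh a h * hh a h = dq (a, a) := HH_ext_iff.2 (by simp [hh, ee_sq h])
  refine ⟨mem_normalizer_of_cj_le (cj_le_iff_forall.2 fun x hx => ?_), ?_, by rw [h3, mul_inv_cancel_right]⟩
  · rw [hR] at hx ⊢
    have e1 := CG_conj hx.1.1 (hh a h)
    have e2 := CG_conj (CG_mul hx.1.2 hx.1.1) (hh a h)
    have e3 := CG_conj hx.2.2 (hh a h)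
    have e4 := CG_conj hx.2.1 (hh a h)
    rw [h1, mul_inv_cancel_right] at e1
    rw [h2, mul_inv_cancel_right] at e2
    rw [h4, mul_inv_cancel_right] at e3
    rw [h3, mul_inv_cancel_right] at e4
    exact ⟨⟨e1, e2⟩, e3, e4⟩
  · rw [pow_succ', pow_mul, pow_two (hh a h), h5, pow_succ', pow_mul, pow_two (dq _), dq_mul, h6, ← neg_dq,
      ← Prod.one_eq_mk, map_one, pow_one, neg_one_sq]

theorem zz_ne : ¬ ((zz : HH F) = 1 ∨ (zz : HH F) = -1) := by
  rw [← map_one dq, Prod.one_eq_mk, neg_dq, dq_inj, dq_inj]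
  simp [neg_ne_self', (neg_ne_self' _).symm]

theorem normalizer_SS (h8 : Q8 F ≤ Q) (hx : x ∈ normalizer (SS Q : Set (HH F))) :
    ∃ s ∈ SS Q, ∃ v ∈ normalizer (Q : Set (L F)), x = s * dq (v, v) := by
  have h1 := neg_mem_Q8 (one_mem (Q8 F))
  have hz : ∀ y ∈ SS Q, zz ∈ CG y := by
    rintro _ ⟨a, -, b, -, rfl | rfl⟩
    · exact .inl (by simp [dq_mul])
    · exact CG_mul (.inl (by simp [dq_mul])) (CG_symm (.inr (by simp [sw_dq, ← neg_mul, neg_dq])))
  have h2 : ∀ y ∈ SS Q, x * zz * x⁻¹ ∈ CG y := fun y hy => by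
    simpa [mul_assoc] using CG_conj (hz _ (conj_inv_mem_of_mem_normalizer hx hy)) x
  have h3 : x ∈ CG zz := mem_CG'.2 ((pm_zz (h2 _ (dq_mem.2 ⟨one_mem _, h8 h1⟩)) (h2 _ sw_mem)
    (h2 _ (dq_mem.2 ⟨h8 qi_mem, one_mem _⟩)) (h2 _ (dq_mem.2 ⟨h8 qj_mem, one_mem _⟩))).resolve_left (by
      rw [mul_inv_eq_iff_eq_mul, mul_inv_eq_iff_eq_mul, one_mul, neg_one_mul, ← mul_neg_one x, mul_eq_left,
        mul_right_inj]; exact zz_ne))
  have key : ∀ u v, dq (u, v) ∈ normalizer (SS Q : Set (HH F)) →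
      dq (u * v⁻¹, 1) ∈ SS Q ∧ v ∈ normalizer (Q : Set (L F)) := fun u v h => by
    refine ⟨?_, mem_normalizer_of_cj_le (cj_le_iff_forall.2 fun y hy => ?_)⟩
    · have := mul_mem (conj_mem_of_mem_normalizer h sw_mem) sw_mem
      rw [dq_inv, mul_assoc _ sw, sw_dq, mul_assoc, mul_assoc, sw_sw, mul_one, dq_mul] at this
      exact dq_mem.2 ⟨(dq_mem.1 this).1, one_mem _⟩
    · have := conj_mem_of_mem_normalizer h (dq_mem.2 ⟨one_mem _, hy⟩)
      rw [dq_inv, dq_mul, dq_mul] at this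
      exact (dq_mem.1 this).2
  obtain ⟨u, v, rfl | rfl⟩ := CG_zz h3
  · exact ⟨_, (key u v hx).1, v, (key u v hx).2, by simp [dq_mul]⟩
  · have := key u v ((mul_mem_cancel_right (le_normalizer sw_mem)).1 hx)
    exact ⟨_, mul_mem this.1 sw_mem, v, this.2, by simp [mul_assoc, sw_dq, ← mul_assoc (dq _), dq_mul]⟩

theorem qw_mem_opp : ∃ a ∈ normalizer (RR F : Set (HH F)), ∃ b ∈ normalizer (RR F : Set (HH F)),
    a ^ 2 ^ 3 = 1 ∧ b ^ 2 ^ 3 = 1 ∧ a * b = dq (qw, qw) := by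
  obtain ⟨h1, h2, -⟩ := hh_mem (a := qi) (a' := qj) rfl (by simp [qj_i]) (rfl : RR F = _)
  obtain ⟨h3, h4, -⟩ := hh_mem (F := F) (a := qj) (a' := qi) rfl qj_i (by rw [RR, inf_comm (CG (dq (qi, qi)))])
  have := NeZero.ne (2 : F)
  have h5 : ee qi * ee qj + ee qi * ee qj = (qw : L F).1 := by
    ext <;> simp [ee] <;> field_simp <;> norm_num
  exact ⟨_, h1, _, h3, h2, h4, HH_ext_iff.2 (by simp [hh, h5])⟩

theorem simple_HH {G : Type*} [Group G] [Finite G] (π : HH F →* G) (hs : Function.Surjective π)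
    (hk : ∀ x, π x = 1 ↔ x = 1 ∨ x = -1) (P : Sylow 2 G) : (groupFusionSystem (P : Subgroup G)).IsSimple 2 := by
  obtain ⟨Q, hQ, h8⟩ := exists_sylIn_ge (le_top (a := Q8 F)) isPGroup_Q8
  have h1 := h8 (neg_mem_Q8 (one_mem (Q8 F)))
  have hc : ∀ x y, π x * π y = π y * π x ↔ x ∈ CG y := fun x y => by
    rw [← mul_inv_eq_one, ← map_mul, ← map_mul, ← map_inv, ← map_mul, hk, mul_inv_eq_one, mul_inv_eq_iff_eq_mul,
      neg_one_mul, mem_CG]
  have hm : ∀ X : Subgroup (HH F), -1 ∈ X → ∀ x, π x ∈ X.map π ↔ x ∈ X := fun X hX x => by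
    rw [← mem_comap, comap_map_eq, sup_eq_left.2 fun y hy => by rcases (hk y).1 hy with rfl | rfl; exacts [one_mem _, hX]]
  have hn : ∀ X : Subgroup (HH F), -1 ∈ X → ∀ x, π x ∈ normalizer (X.map π : Set G) → x ∈ normalizer (X : Set (HH F)) :=
    fun X hX x hx => mem_normalizer_of_cj_le (cj_le_iff_forall.2 fun y hy => (hm X hX _).1 (by
      simpa using conj_mem_of_mem_normalizer hx (mem_map_of_mem π hy)))
  have hS1 : (-1 : HH F) ∈ SS Q := by rw [← map_one dq, Prod.one_eq_mk, neg_dq]; exact dq_mem.2 ⟨h1, h1⟩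
  have hS := hm _ hS1
  have hsyl : SylIn 2 ((SS Q).map π) ⊤ := by
    refine sylIn_of_sylIn_normalizer ⟨le_inf le_top le_normalizer, (isPGroup_SS hQ.pg).map π,
      fun X hX hp hle => le_antisymm (fun g hg => ?_) hle⟩
    obtain ⟨x, rfl⟩ := hs g
    obtain ⟨s, hs', v, hv, rfl⟩ := normalizer_SS h8 (hn _ hS1 x (hX hg).2)
    rw [map_mul, mul_mem_cancel_left (hle (mem_map_of_mem π hs'))] at hg
    obtain ⟨k, e⟩ := exists_pow_of_isPGroup hp hg
    have : v ∈ Q := hQ.le_of_normalizes le_top (isPGroup_zpowers_of_pow (k := k + 1) (by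
      rw [← map_pow, hk, ← map_pow, Prod.pow_mk, ← map_one dq, Prod.one_eq_mk, neg_dq, dq_inj, dq_inj] at e
      rcases e with e | e <;> rw [pow_succ, pow_mul, e.1] <;> simp)) (zpowers_le.2 hv) (mem_zpowers v)
    exact mem_map_of_mem π (mul_mem hs' (dq_mem.2 ⟨this, this⟩))
  have hz : zz ∈ SS Q := dq_mem.2 ⟨one_mem _, h1⟩
  refine crit2 hsyl (fun h => zz_ne ((hk _).1 (mem_bot.1 (h ▸ mem_map_of_mem π hz)))) (fun T hT h0 h => ?_)
    (fun Y hY g _ hg => ?_) (Subgroup.subtype ⊤) (fun g => ⟨⟨g, trivial⟩, rfl⟩) (fun x _ e => Subtype.ext e) P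
  · obtain ⟨g, hg, hg1, hg2⟩ := h.exists_central hsyl hT h0
    obtain ⟨x, rfl⟩ := hs g
    have h2 : ∀ y ∈ SS Q, x ∈ CG y := fun y hy => (hc _ _).1 (hg2 _ (mem_map_of_mem π hy)).symm
    have h3 : ∀ y g, π y ∈ T → g * y * g⁻¹ ∈ SS Q → π (g * y * g⁻¹) ∈ T := fun y g hy e => by
      simpa using h _ hy (π g) trivial (by simpa using mem_map_of_mem π e)
    have h4 : π zz ∈ T := by
      rcases (pm_zz (h2 _ hz) (h2 _ sw_mem) (h2 _ (dq_mem.2 ⟨h8 qi_mem, one_mem _⟩))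
        (h2 _ (dq_mem.2 ⟨h8 qj_mem, one_mem _⟩))).resolve_left fun e => hg1 ((hk _).2 e) with rfl | rfl
      · exact hg
      · rwa [← neg_one_mul, map_mul, (hk _).2 (.inr rfl), one_mul] at hg
    have e := (hh_mem (a := qi) (a' := qj) rfl (by simp [qj_i]) (rfl : RR F = _)).2.2
    have h5 : π sw ∈ T := e ▸ h3 _ _ h4 (e ▸ sw_mem)
    have h6 : ∀ u ∈ Q, π (dq (u, u⁻¹)) ∈ T := fun u hu => by
      have h6 := dq_mem.2 ⟨hu, one_mem Q⟩
      have := mul_mem (h3 _ _ h5 (mul_mem (mul_mem h6 sw_mem) (inv_mem h6))) h5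
      rwa [← map_mul, dq_inv, mul_assoc _ sw, sw_dq, mul_assoc, mul_assoc, sw_sw, mul_one, dq_mul, inv_one, mul_one,
        one_mul] at this
    have h7 : Q ≤ T.comap (π.comp (dq.comp (MonoidHom.inl _ _))) := le_of_sc hQ.pg h8 (fun y hy g _ e => by
      have := h3 _ (dq (g, 1)) hy
      simp only [MonoidHom.comp_apply, MonoidHom.inl_apply, dq_inv, dq_mul, inv_one, mul_one] at this
      exact this (dq_mem.2 ⟨e, one_mem _⟩)) (by
      have := h3 _ (dq (qw, 1)) (h6 _ (h8 qi_mem))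
      simp only [dq_inv, dq_mul, inv_one, mul_one, one_mul, qw_i, mul_inv_cancel_right] at this
      have := mul_mem (this (dq_mem.2 ⟨h8 qj_mem, inv_mem (h8 qi_mem)⟩)) (inv_mem (h6 _ (h8 qi_mem)))
      rwa [← map_inv, ← map_mul, dq_inv, dq_mul, mul_inv_cancel, show qj * qi⁻¹ = (qk : L F) from
        L_ext_iff.2 (by simp)] at this)
    have h9 : ∀ u ∈ Q, ∀ v ∈ Q, π (dq (u, v)) ∈ T := fun u hu v hv => by
      have := mul_mem (mem_comap.1 (h7 hu)) (mul_mem (mul_mem h5 (mem_comap.1 (h7 hv))) h5)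
      simp only [MonoidHom.comp_apply, MonoidHom.inl_apply, ← map_mul π] at this
      rwa [sw_dq, mul_assoc, sw_sw, mul_one, dq_mul, mul_one, one_mul] at this
    rintro _ ⟨_, ⟨u, hu, v, hv, rfl | rfl⟩, rfl⟩
    · exact h9 u hu v hv
    · rw [map_mul]; exact mul_mem (h9 u hu v hv) h5
  · obtain ⟨x, rfl⟩ := hs g
    obtain ⟨s, hs', v, hv, rfl⟩ := normalizer_SS h8 (hn _ hS1 x hg)
    have hSY : (SS Q).map π ≤ Y ((SS Q).map π) :=
      (le_OppA (le_inf le_top le_normalizer) hsyl.pg).trans (hY.opp _ le_rfl)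
    rw [map_mul]
    refine mul_mem (hSY (mem_map_of_mem π hs')) (normalizer_cases hQ h8
      (X := (Y ((SS Q).map π)).comap (π.comp (dq.comp ((MonoidHom.id _).prod (MonoidHom.id _)))))
      (fun u hu => hSY (mem_map_of_mem π (dq_mem.2 ⟨hu, hu⟩))) (fun hw => ?_) hv)
    have hR := map_mono (f := π) (RR_le h8)
    have hN : ∀ {X : Subgroup (HH F)} {x}, x ∈ normalizer (X : Set (HH F)) → π x ∈ normalizer (X.map π : Set G) :=
      fun hx => le_normalizer_map π (mem_map_of_mem π hx)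
    refine hY.up _ _ hR le_rfl (fun g _ hg _ => ?_) _ trivial (hY.opp _ hR ?_) (hN ?_)
    · obtain ⟨x, rfl⟩ := hs g
      have h2 : ∀ y ∈ RR F, x ∈ CG y := fun y hy => (hc _ _).1 (hg _ (mem_map_of_mem π hy)).symm
      refine mem_map_of_mem π ⟨⟨h2 _ ?_, h2 _ ?_⟩, h2 _ ?_, h2 _ ?_⟩ <;>
        simp [RR, mem_CG, dq_mul, sw_dq, neg_dq, ← neg_mul (dq _), dq_inj, qj_i]
    · obtain ⟨a, ha, b, hb, h2, h3, e⟩ := qw_mem_opp (F := F)
      change π (dq (qw, qw)) ∈ _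
      rw [← e, map_mul]
      exact mul_mem (mem_OppA ⟨trivial, hN ha⟩ ⟨3, by rw [← map_pow, h2, map_one]⟩)
        (mem_OppA ⟨trivial, hN hb⟩ ⟨3, by rw [← map_pow, h3, map_one]⟩)
    · refine mem_normalizer_of_cj_le (cj_le_iff_forall.2 ?_)
      have := fun {y : L F} (hy : y ∈ Q) => conj_mem_of_mem_normalizer hw hy
      change ∀ y ∈ _, dq (qw, qw) * y * (dq (qw, qw))⁻¹ ∈ _
      rintro _ ⟨u, hu, v, hv, rfl | rfl⟩ <;> rw [dq_inv]
      · rw [dq_mul, dq_mul]; exact dq_mem.2 ⟨this hu, this hv⟩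
      · rw [mul_assoc, mul_assoc, sw_dq, ← mul_assoc, ← mul_assoc, dq_mul, dq_mul]
        exact mul_mem (dq_mem.2 ⟨this hu, this hv⟩) sw_mem

end Cfsg.Agent.FusE
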